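import Mathlib.RingTheory.Henselian
import Mathlib.RingTheory.Idempotents
import Mathlib.Algebra.Polynomial.Derivative

/-!
# Absolutely integrally closed rings are henselian along ideals lifting idempotents
-/

universe u

open Polynomial Finset

namespace Groth.Agent.CAlgAIC

variable {A : Type u} [CommRing A]

theorem eq_zero_of_idem_mem_jacobson {e : A} (he : IsIdempotentElem e)
    (hj : e ∈ Ideal.jacobson (⊥ : Ideal A)) : e = 0 := by
  have hu := Ideal.mem_jacobson_bot.1 hj (-1)
  have h : (e * -1 + 1) * e = 0 := by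
    have : e * e = e := he
    linear_combination (-1 : A) * this
  exact hu.mul_right_eq_zero.1 h

theorem henselianRing (hA : ∀ f : A[X], f.Monic → ∃ s : Multiset A, f = (s.map fun a => X - C a).prod)
    (I : Ideal A) (hI : I ≤ Ideal.jacobson (⊥ : Ideal A))
    (hidem : ∀ e : A ⧸ I, IsIdempotentElem e → ∃ e' : A, IsIdempotentElem e' ∧ Ideal.Quotient.mk I e' = e) :
    HenselianRing A I := by
  classical
  refine ⟨hI, fun f hf a0 h0 hd => ?_⟩
  obtain ⟨s, hs⟩ := hA f hf
  obtain ⟨n, a, hfa⟩ : ∃ (n : ℕ) (a : Fin n → A), f = ∏ i, (X - C (a i)) := by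
    refine ⟨s.toList.length, fun i => s.toList.get i, ?_⟩
    conv_lhs => rw [hs, ← s.coe_toList]
    rw [Multiset.map_coe, Multiset.prod_coe, ← List.prod_ofFn]
    congr 1
    conv_lhs => rw [← List.ofFn_get s.toList]
    rw [List.map_ofFn]
    rfl
  subst hfa
  let π := Ideal.Quotient.mk I
  let v : Fin n → A ⧸ I := fun i => π (a0 - a i)
  let w : Fin n → A ⧸ I := fun i => ∏ j ∈ univ.erase i, v j
  have hv : ∏ i, v i = 0 := by
    simp only [v, ← map_prod]
    rw [Ideal.Quotient.eq_zero_iff_mem]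
    simpa [eval_prod] using h0
  have hsum : π ((∏ i, (X - C (a i))).derivative.eval a0) = ∑ i, w i := by
    simp [derivative_prod_finset, eval_finset_sum, eval_prod, w, v, π]
  have hvw : ∀ i, w i * v i = 0 := fun i => by
    rw [mul_comm]
    simpa [w, hv] using (mul_prod_erase univ v (mem_univ i))
  have hww : ∀ i k, i ≠ k → w i * w k = 0 := fun i k hik => by
    have : w k = v i * ∏ j ∈ (univ.erase k).erase i, v j :=
      (mul_prod_erase _ v (by simp [hik])).symm
    rw [this, ← mul_assoc, hvw, zero_mul]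
  obtain ⟨u, hu⟩ := hd
  have hu' : (u : A ⧸ I) = ∑ i, w i := hu.trans hsum
  let e : Fin n → A ⧸ I := fun i => ↑u⁻¹ * w i
  have hwu : ∀ i, w i * w i = u * w i := fun i => by
    rw [hu', sum_mul, sum_eq_single i (fun k _ hk => hww k i hk) (by simp)]
  have he : ∀ i, IsIdempotentElem (e i) := fun i => by
    show (↑u⁻¹ * w i) * (↑u⁻¹ * w i) = ↑u⁻¹ * w i
    rw [mul_mul_mul_comm, hwu, ← mul_assoc, mul_assoc (↑u⁻¹ : A ⧸ I), Units.inv_mul, mul_one]
  choose e' he' hee using fun i => hidem (e i) (he i)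
  have hort : ∀ i k, i ≠ k → e' i * e' k = 0 := fun i k hik => by
    refine eq_zero_of_idem_mem_jacobson ((he' i).mul (he' k)) (hI ?_)
    rw [← Ideal.Quotient.eq_zero_iff_mem, map_mul, hee, hee, mul_mul_mul_comm, hww i k hik, mul_zero]
  have hsum1 : ∑ i, e' i = 1 := by
    have hid : IsIdempotentElem (∑ i, e' i) := by
      show (∑ i, e' i) * (∑ i, e' i) = ∑ i, e' i
      rw [sum_mul]
      refine sum_congr rfl fun i _ => ?_
      rw [mul_sum, sum_eq_single i (fun k _ hk => hort i k (Ne.symm hk)) (by simp)]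
      exact he' i
    have := eq_zero_of_idem_mem_jacobson hid.one_sub (hI (by
      rw [← Ideal.Quotient.eq_zero_iff_mem, map_sub, map_one, map_sum]
      simp only [hee, e, ← mul_sum, ← hu', Units.inv_mul, sub_self]))
    exact (sub_eq_zero.1 this).symm
  refine ⟨∑ i, e' i * a i, ?_, ?_⟩
  · rw [IsRoot.def, eval_prod, ← one_mul (∏ i, _), ← hsum1, sum_mul]
    refine sum_eq_zero fun i _ => ?_
    rw [← mul_prod_erase univ _ (mem_univ i), ← mul_assoc]
    simp only [eval_sub, eval_X, eval_C, mul_sub, mul_sum]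
    rw [sum_eq_single i (fun k _ hk => by rw [← mul_assoc, hort i k (Ne.symm hk), zero_mul]) (by simp)]
    rw [← mul_assoc, show e' i * e' i = e' i from he' i, sub_self, zero_mul]
  · rw [← Ideal.Quotient.eq_zero_iff_mem, ← one_mul a0, ← hsum1, sum_mul, ← sum_sub_distrib, map_sum]
    refine sum_eq_zero fun i _ => ?_
    rw [← mul_sub, map_mul, hee, ← neg_sub a0 (a i), map_neg, mul_neg, neg_eq_zero]
    show ↑u⁻¹ * w i * v i = 0
    rw [mul_assoc, hvw, mul_zero]

end Groth.Agent.CAlgAIC
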